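import Cfsg.Agent.H83.Eight.TwD4
import Cfsg.Agent.H115.HC.Four
import Cfsg.Agent.H696.PSq.Defs
import Cfsg.Agent.H678.CCData
import Cfsg.Agent.H115.HC.RankTwo
import Cfsg.Agent.H35.ExcIdxTw_m3
import Cfsg.Agent.H554.RGNo
import Cfsg.Agent.FastGrp
import Cfsg.Agent.Prune
set_option linter.all false

section
prune_inst 0x7ffefcfcefbdbfffdfff7e7ffef9dffe19d4cfffe6dffb43bfe8abef8bdf139c3fc5fba71de068ff0ee3e0b410b87853fb7eefffee6fdc7ffffd5ff41ffbee1ff5f7b78051d194240f3c0fff03f17fca7f3fffffffffffffffffffffffffffbeffffffffffff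

-- part: H501/PSq/TdA
section
set_option linter.all false
open scoped Cfsg.Agent.FastGrp

/-!
# `³D₄(q)`: a degree divisible by `p ^ 2`, `p` odd, unless `5 ≤ p ∣ q ^ 3 - 1` (helper501, S4844)
-/

set_option autoImplicit false

open Cfsg Cfsg.Lie

namespace Cfsg.Agent.H501.PSq

open Cfsg.Agent.H33

/-- `p ^ 2` divides a product with a factor prime to `p` -/
theorem sq_dvd_of {p a b : ℕ} (hp : p.Prime) (ha : ¬ p ∣ a) (h : p ^ 2 ∣ a * b) : p ^ 2 ∣ b :=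
  (Nat.Coprime.pow_left 2 ((Nat.Prime.coprime_iff_not_dvd hp).2 ha)).dvd_of_dvd_mul_left h

theorem td_factor {q P : ℕ} (hq : 1 ≤ q) (hP : P + q ^ 2 = q ^ 4 + 1) :
    q ^ 12 * (q ^ 2 - 1) * (q ^ 6 - 1) * (q ^ 8 + q ^ 4 + 1) =
      q ^ 12 * ((q - 1) * ((q ^ 3 - 1) * ((q ^ 2 + q + 1) * ((q + 1) * ((q ^ 3 + 1) * ((q * (q - 1) + 1) * P)))))) := by
  obtain ⟨k, rfl⟩ := Nat.exists_eq_add_of_le hq
  have hP' : P = (1 + k) ^ 2 * (k ^ 2 + 2 * k) + 1 := by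
    have : (1 + k) ^ 4 = (1 + k) ^ 2 + (1 + k) ^ 2 * (k ^ 2 + 2 * k) := by ring
    omega
  rw [show (1 + k) ^ 2 - 1 = k * (k + 2) from Nat.sub_eq_of_eq_add (by ring),
    show (1 + k) ^ 3 - 1 = k * (k ^ 2 + 3 * k + 3) from Nat.sub_eq_of_eq_add (by ring),
    show (1 + k) ^ 6 - 1 = k * (k + 2) * ((k + 1) ^ 4 + (k + 1) ^ 2 + 1) from Nat.sub_eq_of_eq_add (by ring),
    Nat.add_sub_cancel_left, hP']
  ring

theorem dvd_cube_sub {q : ℕ} (hq : 1 ≤ q) : q - 1 ∣ q ^ 3 - 1 ∧ q ^ 2 + q + 1 ∣ q ^ 3 - 1 := by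
  obtain ⟨k, rfl⟩ := Nat.exists_eq_add_of_le hq
  rw [show (1 + k) ^ 3 - 1 = k * (k ^ 2 + 3 * k + 3) from Nat.sub_eq_of_eq_add (by ring), Nat.add_sub_cancel_left]
  exact ⟨Dvd.intro _ rfl, ⟨k, by ring⟩⟩

theorem dvd_cube_add {q : ℕ} (hq : 1 ≤ q) : q + 1 ∣ q ^ 3 + 1 ∧ q * (q - 1) + 1 ∣ q ^ 3 + 1 := by
  obtain ⟨k, rfl⟩ := Nat.exists_eq_add_of_le hq
  rw [Nat.add_sub_cancel_left]
  exact ⟨⟨(1 + k) * k + 1, by ring⟩, ⟨2 + k, by ring⟩⟩

variable {K : Type} [Field K] [Fintype K] {q : ℕ}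

theorem exists_char (hq : IsPrimePow q) (hK : Fintype.card K = q ^ 3) : ∃ r f : ℕ, r.Prime ∧ CharP K r ∧ 0 < f ∧
    q = r ^ f := by
  obtain ⟨r, f, hr, hf, hqf⟩ := id hq
  have hr := hr.nat_prime
  refine ⟨r, f, hr, ?_, hf, hqf.symm⟩
  obtain ⟨p, hch⟩ := CharP.exists K
  obtain ⟨⟨k, hk⟩, hpp, hcard⟩ := FiniteField.card K p
  have h1 : p ∣ r ^ (f * 3) := by
    rw [pow_mul, hqf, ← hK, hcard]
    exact dvd_pow_self p hk.ne'
  have h2 := (Nat.prime_dvd_prime_iff_eq hpp hr).1 (hpp.dvd_of_dvd_pow h1)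
  rwa [h2] at hch

theorem td_char (hq : IsPrimePow q) (hK : Fintype.card K = q ^ 3) {p : ℕ} [hp : Fact p.Prime]
    (hd : p ^ 2 ∣ Nat.card ↥(twistedD4 K q)) (hpq : p ∣ q) : IM (p ^ 2) ↥(twistedD4 K q) := by
  obtain ⟨r, f, hr, hch, hf, hqf⟩ := exists_char hq hK
  have hrp : p = r := by
    rw [hqf] at hpq
    exact (Nat.prime_dvd_prime_iff_eq hp.1 hr).1 (hp.1.dvd_of_dvd_pow hpq)
  subst hrp
  obtain ⟨χ, hχ, h1⟩ := H167.SteinbergRGD.steinberg_of_hasRGD (Nodes.RGDTwD4.hasRGD hq hK p)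
  have Q : Sylow p ↥(twistedD4 K q) := default
  exact IM.of_apply_one hχ (h1 Q).1 (Q.pow_dvd_card_of_pow_dvd_card hd)

theorem not_dvd_two {p : ℕ} (hp : p.Prime) (hp2 : p ≠ 2) : ¬ p ∣ 2 := fun h =>
  hp2 ((Nat.prime_dvd_prime_iff_eq hp Nat.prime_two).1 h)

/-- **`³D₄(q)`, all odd `p` except `5 ≤ p ∣ q ^ 3 - 1`.** -/
theorem td_easy (hq : IsPrimePow q) (hK : Fintype.card K = q ^ 3) {p : ℕ} [hp : Fact p.Prime] (hp2 : p ≠ 2)
    (hd : p ^ 2 ∣ Nat.card ↥(twistedD4 K q)) (h3 : p = 3 ∨ ¬ p ∣ q ^ 3 - 1) :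
    IM (p ^ 2) ↥(twistedD4 K q) := by
  classical
  by_cases hpq : p ∣ q
  · exact td_char hq hK hd hpq
  have hq1 : 1 ≤ q := hq.one_lt.le
  obtain ⟨P, hP⟩ : ∃ P, P + q ^ 2 = q ^ 4 + 1 := ⟨q ^ 4 + 1 - q ^ 2, by
    have : q ^ 2 ≤ q ^ 4 := Nat.pow_le_pow_right hq.pos (by norm_num)
    omega⟩
  obtain ⟨⟨d2, h2⟩, ⟨d3, hd3⟩⟩ := H83.Eight.TwD4.exists_half q P
  obtain ⟨-, ⟨χ2, m2⟩, ⟨χ3, m3⟩, -⟩ := H83.Eight.TwD4.unip hq hK hP h2 hd3
  have h2' := not_dvd_two hp.1 hp2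
  -- `p ∣ q ^ 3 + 1`
  by_cases hp3 : p ∣ q ^ 3 + 1
  · refine ⟨χ3, ?_⟩
    rw [m3]
    refine sq_dvd_of hp.1 h2' ?_
    rw [hd3]
    exact (pow_dvd_pow_of_dvd hp3 2).mul_left _
  rw [S1067.result hq hK, td_factor hq1 hP] at hd
  replace hd := sq_dvd_of hp.1 (fun h => hpq (hp.1.dvd_of_dvd_pow h)) hd
  by_cases hpe : p = 3
  · subst hpe
    obtain ⟨χ, m, h5, h6, -⟩ := H115.HC.TwDFour.char_all hq hK
    refine ⟨χ, ?_⟩
    rw [h5]
    have hm3 : q % 3 = 1 := by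
      have h1 : q % 3 = 0 ∨ q % 3 = 1 ∨ q % 3 = 2 := by omega
      rcases h1 with h1 | h1 | h1
      · exact absurd (Nat.dvd_of_mod_eq_zero h1) hpq
      · exact h1
      · exfalso
        apply hp3
        simp [Nat.dvd_iff_mod_eq_zero, Nat.add_mod, Nat.pow_mod, h1]
    have h3E : 3 ∣ q ^ 8 + q ^ 4 + 1 := by
      simp [Nat.dvd_iff_mod_eq_zero, Nat.add_mod, Nat.pow_mod, hm3]
    have h7 : 3 ∣ m := h6 3 Nat.prime_three (by norm_num) (by omega)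
    rw [sq]
    exact Nat.mul_dvd_mul (h3E.mul_left _) h7
  have h31 := h3.resolve_left hpe
  obtain ⟨e1, e2⟩ := dvd_cube_sub hq1
  obtain ⟨e3, e4⟩ := dvd_cube_add hq1
  replace hd := sq_dvd_of hp.1 (fun h => h31 (h.trans e1)) hd
  replace hd := sq_dvd_of hp.1 h31 hd
  replace hd := sq_dvd_of hp.1 (fun h => h31 (h.trans e2)) hd
  replace hd := sq_dvd_of hp.1 (fun h => hp3 (h.trans e3)) hd
  replace hd := sq_dvd_of hp.1 hp3 hd
  replace hd := sq_dvd_of hp.1 (fun h => hp3 (h.trans e4)) hd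
  refine ⟨χ2, ?_⟩
  rw [m2]
  refine sq_dvd_of hp.1 h2' ?_
  rw [h2]
  exact hd.mul_left _

end Cfsg.Agent.H501.PSq
end

-- part: H501/PSq/TdSmall
section
prune_inst 0x10302104240002000000001002000020210001900040040024010142000020008000080009200001402402001000000000000000000000000a00000000040020800010000000000c060009800000000000000000000000000000000000000000000000000
set_option linter.all false
open scoped Cfsg.Agent.FastGrp

/-!
# `³D₄(2)`, `p = 7` and `³D₄(3)`, `p = 13` (helper501, S4844)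

The relation between the degrees of the nonexceptional characters and the exceptional degree of the CC-subgroup of order
`q ^ 4 - q ^ 2 + 1`: `rel`. Then a finite check.
-/

set_option autoImplicit false
set_option linter.unusedSectionVars false

open Cfsg Cfsg.Lie

namespace Cfsg.Agent.H501.PSq

open Cfsg.Agent.H33
open Cfsg.Agent.Nodes
open Cfsg.Agent.Characters Cfsg.Agent.Characters.CCBasic Cfsg.Agent.Characters.CCEstimates
  Cfsg.Agent.Characters.CCValues Cfsg.Agent.H678.CCExact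

universe u

/-- the degree relation -/
theorem rel {G : Type u} [Group G] [Fintype G] {A : Subgroup G} (hA : IsCC A) (h4 : len A = 4) {s : ℕ} (h3 : 3 ≤ s)
    (hs : s * 4 + 1 = Nat.card A) {χ₂ χ₃ : IrrCharacter G} {e₂ e₃ : ℕ} (d2 : charDegree (χ₂ : G → ℂ) = e₂)
    (d3 : charDegree (χ₃ : G → ℂ) = e₃) (m2 : (Nat.card A : ℤ) ∣ e₂ - 1) (m3 : (Nat.card A : ℤ) ∣ e₃ + 1)
    (h12 : e₂ ≠ 1) :
    ∃ (d : ℕ) (ε : ℤ), (ε = 1 ∨ ε = -1) ∧ (∃ χ : IrrCharacter G, charDegree (χ : G → ℂ) = d) ∧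
      ((s = 3 ∧ (1 : ℤ) + e₂ - e₃ = -2 * (ε * d)) ∨ ((Nat.card A : ℤ) ∣ d - 4 * ε ∧
        ∃ (ψ : IrrCharacter G) (f : ℤ), (f = 1 ∨ f = -1) ∧ (Nat.card A : ℤ) ∣ charDegree (ψ : G → ℂ) - f ∧
          (1 : ℤ) + e₂ - e₃ + f * charDegree (ψ : G → ℂ) = ε * d)) := by
  classical
  have : Finite (IrrCharacter G) := Core.finite_irr
  have := Fintype.ofFinite (IrrCharacter G)
  obtain ⟨D⟩ := nonempty_ccData hA h4 hs (by omega)
  have hP : (Nat.card A : ℤ) = s * 4 + 1 := by exact_mod_cast hs.symm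
  have hs' : (3 : ℤ) ≤ s := by exact_mod_cast h3
  have hε := D.hε
  have hsq := D.sq
  have hsd := D.sd
  have hddvd := D.ddvd
  have hnn : 0 ≤ ∑ ψ : IrrCharacter G, D.f ψ ^ 2 := Finset.sum_nonneg fun _ _ => sq_nonneg _
  push_cast at hsq hddvd
  -- `|c| ≤ 1`
  have hc1 : D.c = 0 ∨ D.c = 1 ∨ D.c = -1 := by
    have h1 : (s : ℤ) * D.c ^ 2 ≤ 4 + 2 * D.ε * D.c := by linarith only [hsq, hnn]
    have h2 : 3 * D.c ^ 2 ≤ (s : ℤ) * D.c ^ 2 := by nlinarith only [h3, sq_nonneg D.c]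
    have h5 : D.c < 2 ∧ -2 < D.c := by
      rcases hε with h | h <;> rw [h] at h1 <;> constructor <;> nlinarith only [h1, h2]
    omega
  -- the three known characters
  have hdeg1 : charDegree ((one G : IrrCharacter G) : G → ℂ) = 1 := by
    unfold charDegree
    rw [coe_one, Pi.one_apply]
    simp
  have hnR : ∀ χ : IrrCharacter G, ∀ e : ℤ, (e = 1 ∨ e = -1) →
      (Nat.card A : ℤ) ∣ charDegree (χ : G → ℂ) - e → χ ∉ D.R := by
    intro χ e he hdv hR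
    rw [D.deg χ hR] at hdv
    have h1 := dvd_sub hdv hddvd
    rw [show (D.d : ℤ) - e - ((D.d : ℤ) - (D.ε * 4 + D.c)) = D.ε * 4 + D.c - e by ring] at h1
    have h2 : |D.ε * 4 + D.c - e| < Nat.card A := by
      rw [hP, abs_lt]
      rcases hε with h | h <;> rcases hc1 with h' | h' | h' <;> rcases he with h'' | h'' <;>
        rw [h, h', h''] <;> constructor <;> linarith only [h3]
    have h5 := Int.eq_zero_of_abs_lt_dvd h1 h2
    rcases hε with h | h <;> rcases hc1 with h' | h' | h' <;> rcases he with h'' | h'' <;>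
      rw [h, h', h''] at h5 <;> norm_num at h5
  have hbig : ∀ χ : IrrCharacter G, D.f χ ^ 2 ≤ 6 := by
    intro χ
    have h1 : D.f χ ^ 2 ≤ ∑ ψ : IrrCharacter G, D.f ψ ^ 2 :=
      Finset.single_le_sum (f := fun ψ : IrrCharacter G => D.f ψ ^ 2) (fun _ _ => sq_nonneg _) (Finset.mem_univ χ)
    have h2 : (0 : ℤ) ≤ s * D.c ^ 2 := by (clear * - h3; positivity)
    rcases hε with h | h <;> rcases hc1 with h' | h' | h' <;> rw [h, h'] at hsq <;> rw [h'] at h2 <;> linarith only [hsq, h1, h3, hnn]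
  have hval : ∀ χ : IrrCharacter G, ∀ e : ℤ, (e = 1 ∨ e = -1) →
      (Nat.card A : ℤ) ∣ charDegree (χ : G → ℂ) - e → D.f χ = e := by
    intro χ e he hdv
    have h1 := dvd_sub hdv (D.dvd χ (hnR χ e he hdv))
    rw [sub_sub_sub_cancel_left] at h1
    have h2 := hbig χ
    have h5 : D.f χ ≤ 2 ∧ -2 ≤ D.f χ := by constructor <;> nlinarith only [h2]
    have h6 : |D.f χ - e| < Nat.card A := by
      rw [hP, abs_lt]
      rcases he with h'' | h'' <;> rw [h''] <;> constructor <;> linarith only [h3, h5]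
    have h7 := Int.eq_zero_of_abs_lt_dvd h1 h6
    linarith only [h7]
  have hf1 : D.f (one G) = 1 := hval _ 1 (Or.inl rfl) (by rw [hdeg1]; simp only [_root_.Nat.card_eq_fintype_card, _root_.Nat.cast_one, _root_.sub_self, _root_.dvd_zero])
  have hf2 : D.f χ₂ = 1 := hval _ 1 (Or.inl rfl) (by rw [d2]; exact m2)
  have hf3 : D.f χ₃ = -1 := hval _ (-1) (Or.inr rfl) (by rw [d3, sub_neg_eq_add]; exact m3)
  have n12 : one G ≠ χ₂ := by
    intro h
    rw [← h, hdeg1] at d2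
    exact h12 d2.symm
  have n13 : one G ≠ χ₃ := by
    intro h
    rw [← h, hf1] at hf3
    norm_num at hf3
  have n23 : χ₂ ≠ χ₃ := by
    intro h
    rw [← h, hf2] at hf3
    norm_num at hf3
  let B : Finset (IrrCharacter G) := {one G, χ₂, χ₃}
  have hB : ∀ g : IrrCharacter G → ℤ, ∑ ψ : IrrCharacter G, g ψ = g (one G) + g χ₂ + g χ₃ + ∑ ψ ∈ Bᶜ, g ψ := by
    intro g
    rw [← Finset.sum_add_sum_compl B g, Finset.sum_insert (by simp [n12, n13]), Finset.sum_pair n23]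
    ring
  rw [hB, hf1, hf2, hf3] at hsq
  rw [hB (fun ψ => (charDegree (ψ : G → ℂ) : ℤ) * D.f ψ), hf1, hf2, hf3, hdeg1, d2, d3] at hsd
  have hnn2 : 0 ≤ ∑ ψ ∈ Bᶜ, D.f ψ ^ 2 := Finset.sum_nonneg fun _ _ => sq_nonneg _
  have hzero : ∀ C : Finset (IrrCharacter G), ∑ ψ ∈ C, D.f ψ ^ 2 = 0 →
      ∑ ψ ∈ C, (charDegree (ψ : G → ℂ) : ℤ) * D.f ψ = 0 := by
    intro C hC
    rw [Finset.sum_eq_zero_iff_of_nonneg (fun _ _ => sq_nonneg _)] at hC
    refine Finset.sum_eq_zero fun ψ hψ => ?_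
    rw [(pow_eq_zero_iff (two_ne_zero)).1 (hC ψ hψ), mul_zero]
  have hRne : D.R.Nonempty := by
    rw [← Finset.card_pos, D.hcard]
    omega
  obtain ⟨ρ, hρ⟩ := hRne
  refine ⟨D.d, D.ε, hε, ⟨ρ, D.deg ρ hρ⟩, ?_⟩
  rcases eq_or_ne D.c 0 with hc0 | hc0
  · right
    rw [hc0] at hsq hsd hddvd
    refine ⟨by rw [show (D.d : ℤ) - 4 * D.ε = D.d - (D.ε * 4 + 0) by ring]; exact hddvd, ?_⟩
    have hsum : ∑ ψ ∈ Bᶜ, D.f ψ ^ 2 = 1 := by linarith only [hsq]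
    obtain ⟨ψ, hψB, hψ⟩ : ∃ ψ ∈ Bᶜ, D.f ψ ≠ 0 := by
      by_contra hcon
      push Not at hcon
      rw [Finset.sum_eq_zero fun ψ hψ => by rw [hcon ψ hψ]; ring] at hsum
      norm_num at hsum
    have hge : 1 ≤ D.f ψ ^ 2 := by
      have : 0 < D.f ψ ^ 2 := by (clear * - hψ; positivity)
      omega
    rw [← Finset.add_sum_erase _ _ hψB] at hsum
    have hnn3 : 0 ≤ ∑ ψ ∈ Bᶜ.erase ψ, D.f ψ ^ 2 := Finset.sum_nonneg fun _ _ => sq_nonneg _
    have h1 := hzero (Bᶜ.erase ψ) (by linarith only [hsum, hge, hnn3])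
    have h2 : D.f ψ ^ 2 = 1 := by linarith only [hsum, hge, hnn3]
    have hψR : ψ ∉ D.R := fun h => hψ (D.hf0 ψ h)
    refine ⟨ψ, D.f ψ, (mul_self_eq_one_iff.1 (by rw [← sq]; exact h2)), D.dvd ψ hψR, ?_⟩
    rw [← Finset.add_sum_erase _ _ hψB, h1] at hsd
    push_cast at hsd
    linarith only [hsd]
  · left
    have hcc : D.c ^ 2 = 1 := by rcases hc1 with h | h | h <;> [exact absurd h hc0; rw [h]; rw [h]] <;> norm_num
    have hec : D.ε * D.c = 1 ∨ D.ε * D.c = -1 := by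
      rcases hε with h | h <;> rcases hc1 with h' | h' | h' <;> first | exact absurd h' hc0 | (rw [h, h']; norm_num)
    rw [hcc, mul_one] at hsq
    have he1 : D.ε * D.c = 1 := by
      rcases hec with h | h
      · exact h
      · exfalso
        have : 2 * D.ε * D.c = 2 * (D.ε * D.c) := by ring
        rw [this, h] at hsq
        linarith only [hsq, hnn2]
    have e2 : 2 * D.ε * D.c = 2 := by linear_combination 2 * he1
    rw [e2] at hsq
    have hs3 : (s : ℤ) = 3 := by linarith only [h3, hsq, hnn2]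
    have h1 := hzero Bᶜ (by linarith only [h3, hsq, hnn2])
    have hcε : D.c = D.ε := by
      rcases hε with h | h <;> rw [h] at he1 ⊢ <;> linarith only [he1]
    refine ⟨by exact_mod_cast hs3, ?_⟩
    rw [h1, hs3, hcε] at hsd
    push_cast at hsd
    linarith only [hsd]

/-! ### the two groups -/

section group

variable {K : Type} [Field K] [Fintype K] {q : ℕ}

/-- the degree relation of `³D₄(q)` -/
theorem rel_td (hq : IsPrimePow q) (hK : Fintype.card K = q ^ 3) {P s : ℕ} (hP : P + q ^ 2 = q ^ 4 + 1)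
    (hs : s * 4 + 1 = P) {e₃ : ℕ} (h3 : 2 * e₃ = q ^ 3 * (q ^ 3 + 1) ^ 2) :
    ∃ (d : ℕ) (ε : ℤ), (ε = 1 ∨ ε = -1) ∧ (∃ χ : IrrCharacter ↥(twistedD4 K q), charDegree (χ : ↥(twistedD4 K q) → ℂ) = d) ∧
      ((s = 3 ∧ (1 : ℤ) + (q ^ 12 : ℕ) - e₃ = -2 * (ε * d)) ∨ ((P : ℤ) ∣ d - 4 * ε ∧
        ∃ (ψ : IrrCharacter ↥(twistedD4 K q)) (f : ℤ), (f = 1 ∨ f = -1) ∧
          (P : ℤ) ∣ charDegree (ψ : ↥(twistedD4 K q) → ℂ) - f ∧
          (1 : ℤ) + (q ^ 12 : ℕ) - e₃ + f * charDegree (ψ : ↥(twistedD4 K q) → ℂ) = ε * d)) := by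
  classical
  obtain ⟨p, hch⟩ := CharP.exists K
  have hpf : Fact p.Prime := ⟨CharP.char_is_prime K p⟩
  have hfin : Finite ↥(twistedD4 K q) := inferInstance
  have := Fintype.ofFinite ↥(twistedD4 K q)
  obtain ⟨x0, hx0, hx0c, -⟩ := H83.TorD4.exists_x0 hq hK p
  have hPe : P = q ^ 4 - q ^ 2 + 1 := by
    have : q ^ 2 ≤ q ^ 4 := Nat.pow_le_pow_right hq.pos (by norm_num)
    omega
  have hP13 : 13 ≤ P := by
    obtain ⟨k, hk⟩ := Nat.exists_eq_add_of_le hq.two_le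
    have h4 : q ^ 4 = q ^ 2 * q ^ 2 := by ring
    have h5 : 4 ≤ q ^ 2 := by
      have := Nat.pow_le_pow_left hq.two_le 2
      omega
    have h6 : q ^ 2 * q ^ 2 ≥ 4 * q ^ 2 := Nat.mul_le_mul_right _ h5
    omega
  have hcard : Nat.card ↥(Subgroup.zpowers x0) = P := by rw [Nat.card_zpowers, hx0, hPe]
  have hA : IsCC (Subgroup.zpowers x0) := by
    refine ⟨fun h => ?_, hx0c⟩
    rw [h, Subgroup.card_bot] at hcard
    omega
  have hr := Nat.minFac_prime (n := P) (by omega)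
  have hrP : P.minFac ∣ P := Nat.minFac_dvd P
  have hr4 : 4 < P.minFac := by
    obtain ⟨h2, h3⟩ := H83.TorD4.prime_ne hr (by rw [← hPe]; exact hrP)
    have h4 := hr.two_le
    have h5 : P.minFac ≠ 4 := by
      intro h
      rw [h] at hr
      revert hr
      decide
    omega
  have hidx : (Subgroup.zpowers x0).index ≡ 4 [MOD P.minFac] := by
    refine H83.RowD4.index_mod hq.one_lt.le (m := P.minFac) (by rw [← hPe]; exact hrP) ?_
    rw [← S1067.result hq hK, ← hPe, ← hcard, mul_comm]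
    exact (Subgroup.zpowers x0).card_mul_index
  have hN := H83.Eight.CC.card_normalizer hA inferInstance hr (by rw [hcard]; exact hrP) hidx (by norm_num) hr4
  have hlen : len (Subgroup.zpowers x0) = 4 := by
    have h1 := len_mul_card (Subgroup.zpowers x0)
    rw [hN] at h1
    exact Nat.eq_of_mul_eq_mul_right Nat.card_pos h1
  obtain ⟨χ₂, hχ₂⟩ := H83.Eight.TwD4.st hq hK
  obtain ⟨⟨d2, h2⟩, -⟩ := H83.Eight.TwD4.exists_half q P
  obtain ⟨-, -, ⟨χ₃, hχ₃⟩, -⟩ := H83.Eight.TwD4.unip hq hK hP h2 h3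
  obtain ⟨r1, r2⟩ := H83.Eight.TwD4.residues hP h3
  have := rel hA hlen (s := s) (by omega) (by rw [hcard]; exact hs) hχ₂ hχ₃
    (by rw [hcard]; push_cast; exact r2) (by rw [hcard]; exact r1)
    (by
      have h7 : 1 < q ^ 12 := Nat.one_lt_pow (by norm_num) hq.one_lt
      omega)
  rw [hcard] at this
  exact this

theorem chk2 : ∀ i < 13, ∀ j < 5, ∀ k < 3, ∀ e ∈ [(1 : ℤ), -1], ((2 : ℤ) ^ i * 3 ^ j * 7 ^ k - 4 * e) % 13 = 0 →
    (16257024 : ℤ) % (e * (2 ^ i * 3 ^ j * 7 ^ k) - 3773) = 0 → ((2 : ℤ) ^ i * 3 ^ j * 7 ^ k) % 49 = 0 := by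
  decide +kernel

theorem chk3 : ∀ i < 7, ∀ j < 13, ∀ k < 3, ∀ l < 3, ∀ e ∈ [(1 : ℤ), -1],
    ((2 : ℤ) ^ i * 3 ^ j * 7 ^ k * 13 ^ l - 4 * e) % 73 = 0 →
    (281655226944 : ℤ) % (e * (2 ^ i * 3 ^ j * 7 ^ k * 13 ^ l) - 520858) = 0 →
    ((2 : ℤ) ^ i * 3 ^ j * 7 ^ k * 13 ^ l) % 169 = 0 := by
  decide +kernel

theorem dvd_of_im {G : Type u} [Group G] [Finite G] (χ : IrrCharacter G) : charDegree (χ : G → ℂ) ∣ Nat.card G :=
  IM.dvd_card (p := charDegree (χ : G → ℂ)) ⟨χ, dvd_rfl⟩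

/-- a divisor of `N P` congruent to `m ≠ 0` modulo the prime `P` divides `N` -/
theorem dvd_of_cong {d N P : ℕ} (hP : P.Prime) {m : ℤ} (h0 : m ≠ 0) (hm : |m| < P) (h : d ∣ P * N)
    (hd : (P : ℤ) ∣ d - m) : d ∣ N := by
  have h1 : ¬ P ∣ d := by
    intro h2
    have h3 : (P : ℤ) ∣ d := Int.natCast_dvd_natCast.2 h2
    have h4 := dvd_sub h3 hd
    rw [sub_sub_cancel] at h4
    exact h0 (Int.eq_zero_of_abs_lt_dvd h4 hm)
  exact (Nat.Coprime.symm ((Nat.Prime.coprime_iff_not_dvd hP).2 h1)).dvd_of_dvd_mul_left h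

/-- `³D₄(2)`, `p = 7` -/
theorem td_two (hK : Fintype.card K = 2 ^ 3) : IM (7 ^ 2) ↥(twistedD4 K 2) := by
  have hq : IsPrimePow 2 := Nat.prime_two.isPrimePow
  have hcard := S1067.result hq hK
  obtain ⟨d, ε, hε, ⟨χ, rfl⟩, h⟩ := rel_td (q := 2) (P := 13) (s := 3) (e₃ := 324) hq hK (by norm_num) (by norm_num)
    (by norm_num)
  have hdv := dvd_of_im χ
  rw [hcard] at hdv
  set d := charDegree (χ : ↥(twistedD4 K 2) → ℂ) with hd
  rcases h with ⟨-, h⟩ | ⟨h1, ψ, f, hf, h2, h3⟩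
  · exfalso
    push_cast at h
    omega
  · have hψ := dvd_of_im ψ
    rw [hcard] at hψ
    have e1 : d ∣ 2 ^ 12 * 3 ^ 4 * 7 ^ 2 := by
      refine dvd_of_cong (P := 13) (m := 4 * ε) (by norm_num) (by rcases hε with h | h <;> rw [h] <;> norm_num)
        (by rcases hε with h | h <;> rw [h] <;> norm_num) (hdv.trans (by norm_num)) h1
    have e2 : charDegree (ψ : ↥(twistedD4 K 2) → ℂ) ∣ 2 ^ 12 * 3 ^ 4 * 7 ^ 2 := by
      refine dvd_of_cong (P := 13) (m := f) (by norm_num) (by rcases hf with h | h <;> rw [h] <;> norm_num)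
        (by rcases hf with h | h <;> rw [h] <;> norm_num) (hψ.trans (by norm_num)) h2
    obtain ⟨ab, c, hab, hc, hdabc⟩ := (Nat.dvd_mul).1 e1
    obtain ⟨a, b, ha, hb, rfl⟩ := (Nat.dvd_mul).1 hab
    obtain ⟨i, hi, rfl⟩ := (Nat.dvd_prime_pow Nat.prime_two).1 ha
    obtain ⟨j, hj, rfl⟩ := (Nat.dvd_prime_pow Nat.prime_three).1 hb
    obtain ⟨k, hk, rfl⟩ := (Nat.dvd_prime_pow (by norm_num)).1 hc
    have hdZ : (d : ℤ) = 2 ^ i * 3 ^ j * 7 ^ k := by rw [← hdabc]; push_cast; rfl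
    have h5 := chk2 i (by omega) j (by omega) k (by omega) ε
      (by rcases hε with h | h <;> rw [h] <;> simp) (by rw [← hdZ]; exact Int.emod_eq_zero_of_dvd h1) (by
        rw [← hdZ]
        apply Int.emod_eq_zero_of_dvd
        have h6 : ε * (d : ℤ) - 3773 = f * charDegree (ψ : ↥(twistedD4 K 2) → ℂ) := by
          rw [← h3]; push_cast; ring
        rw [h6]
        have h7 : ((charDegree (ψ : ↥(twistedD4 K 2) → ℂ) : ℕ) : ℤ) ∣ 16257024 := by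
          have := Int.natCast_dvd_natCast.2 e2
          norm_num at this
          exact this
        rcases hf with h | h <;> rw [h]
        · rw [one_mul]; exact h7
        · rw [neg_one_mul, neg_dvd]; exact h7)
    refine ⟨χ, ?_⟩
    rw [← hdZ] at h5
    have h8 : ((49 : ℕ) : ℤ) ∣ (d : ℤ) := Int.dvd_of_emod_eq_zero h5
    exact Int.natCast_dvd_natCast.1 h8

/-- `³D₄(3)`, `p = 13` -/
theorem td_three (hK : Fintype.card K = 3 ^ 3) : IM (13 ^ 2) ↥(twistedD4 K 3) := by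
  have hq : IsPrimePow 3 := Nat.prime_three.isPrimePow
  have hcard := S1067.result hq hK
  obtain ⟨d, ε, hε, ⟨χ, rfl⟩, h⟩ := rel_td (q := 3) (P := 73) (s := 18) (e₃ := 10584) hq hK (by norm_num) (by norm_num)
    (by norm_num)
  have hdv := dvd_of_im χ
  rw [hcard] at hdv
  set d := charDegree (χ : ↥(twistedD4 K 3) → ℂ) with hd
  rcases h with ⟨h, -⟩ | ⟨h1, ψ, f, hf, h2, h3⟩
  · norm_num at h
  · have hψ := dvd_of_im ψ
    rw [hcard] at hψ
    have e1 : d ∣ 2 ^ 6 * 3 ^ 12 * 7 ^ 2 * 13 ^ 2 := by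
      refine dvd_of_cong (P := 73) (m := 4 * ε) (by norm_num) (by rcases hε with h | h <;> rw [h] <;> norm_num)
        (by rcases hε with h | h <;> rw [h] <;> norm_num) (hdv.trans (by norm_num)) h1
    have e2 : charDegree (ψ : ↥(twistedD4 K 3) → ℂ) ∣ 2 ^ 6 * 3 ^ 12 * 7 ^ 2 * 13 ^ 2 := by
      refine dvd_of_cong (P := 73) (m := f) (by norm_num) (by rcases hf with h | h <;> rw [h] <;> norm_num)
        (by rcases hf with h | h <;> rw [h] <;> norm_num) (hψ.trans (by norm_num)) h2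
    obtain ⟨abc, l', habc, hl', hdabc⟩ := (Nat.dvd_mul).1 e1
    obtain ⟨ab, c, hab, hc, rfl⟩ := (Nat.dvd_mul).1 habc
    obtain ⟨a, b, ha, hb, rfl⟩ := (Nat.dvd_mul).1 hab
    obtain ⟨i, hi, rfl⟩ := (Nat.dvd_prime_pow Nat.prime_two).1 ha
    obtain ⟨j, hj, rfl⟩ := (Nat.dvd_prime_pow Nat.prime_three).1 hb
    obtain ⟨k, hk, rfl⟩ := (Nat.dvd_prime_pow (by norm_num)).1 hc
    obtain ⟨l, hl, rfl⟩ := (Nat.dvd_prime_pow (by norm_num)).1 hl'
    have hdZ : (d : ℤ) = 2 ^ i * 3 ^ j * 7 ^ k * 13 ^ l := by rw [← hdabc]; push_cast; rfl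
    have h5 := chk3 i (by omega) j (by omega) k (by omega) l (by omega) ε
      (by rcases hε with h | h <;> rw [h] <;> simp) (by rw [← hdZ]; exact Int.emod_eq_zero_of_dvd h1) (by
        rw [← hdZ]
        apply Int.emod_eq_zero_of_dvd
        have h6 : ε * (d : ℤ) - 520858 = f * charDegree (ψ : ↥(twistedD4 K 3) → ℂ) := by
          rw [← h3]; push_cast; ring
        rw [h6]
        have h7 : ((charDegree (ψ : ↥(twistedD4 K 3) → ℂ) : ℕ) : ℤ) ∣ 281655226944 := by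
          have := Int.natCast_dvd_natCast.2 e2
          norm_num at this
          exact this
        rcases hf with h | h <;> rw [h]
        · rw [one_mul]; exact h7
        · rw [neg_one_mul, neg_dvd]; exact h7)
    refine ⟨χ, ?_⟩
    rw [← hdZ] at h5
    have h8 : ((169 : ℕ) : ℤ) ∣ (d : ℤ) := Int.dvd_of_emod_eq_zero h5
    exact Int.natCast_dvd_natCast.1 h8

end group

end Cfsg.Agent.H501.PSq
end

-- part: H501/PSq/TdC
section
prune_inst 0x40001a021100000000430000000000000000080200008600000000100000a0000000004000000010000000000000040000000000008082026081a000000000000000400000000000000000000000000000000000000000000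
set_option linter.all false
open scoped Cfsg.Agent.FastGrp

-- part: H501/PSq/NodeOne
section
/-!
# Root group data of type `G₂`: the characters induced from the parabolic subgroup of the node `1` (helper501, S4844)

The mirror image of `H115.HC.RankTwo` (node `0`): `w ∉ W_{1}` with `w α_1 = α_1` is `v = s_0 s_1 s_0 s_1 s_0`.
-/

set_option autoImplicit false

open scoped ComplexConjugate
open Cfsg

namespace Cfsg.Agent.H501.PSq

open CoxeterSystem Cfsg.Agent.ChevalleyStructure.CoxeterGeom Cfsg.Agent.Tits.Roots Cfsg.Agent.Tits.Core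
  Cfsg.Agent.Tits.Exchange Cfsg.Agent.Nodes.Reps Cfsg.Agent.Nodes.BNOf Cfsg.Agent.Nodes.StabComb
  Cfsg.Agent.Nodes.Bruhat Cfsg.Agent.Nodes.OppDec Cfsg.Agent.Nodes.LeviDec Cfsg.Agent.H53.HC
  Cfsg.Agent.LieRecognition.RankOneAbstract Cfsg.Agent.Characters Cfsg.Agent.H115.HC

variable {W Y : Type*} [Group W] [Group Y] {M : CoxeterMatrix (Fin 2)}
  {cs : CoxeterSystem M W} {A : Fin 2 → Fin 2 → ℤ} {h : IsCartan M A} {p : ℕ} {T : Subgroup Y} {n : Fin 2 → Y}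
  {X : (Fin 2 → ℤ) → Subgroup Y}

/-- the reflection word -/
def vv1 (cs : CoxeterSystem M W) : W :=
  cs.simple 0 * cs.simple 1 * cs.simple 0 * (cs.simple 0 * cs.simple 1)⁻¹

theorem rep_eq_of1 [Finite W] {w : W} (hw : w ∉ WJ cs ({1} : Set (Fin 2))) (h0 : rep cs h w (sr 1) = sr 1) :
    rep cs h w (sr 0) = fun k => if k = 1 then A 1 0 else -1 := by
  have hJ : ∀ i : Fin 2, i ∈ ({1} : Set (Fin 2)) ↔ i ≠ 0 := by
    intro i
    fin_cases i <;> simp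
  have hp : Perm cs h ({1} : Set (Fin 2)) w := by
    refine ⟨fun i hi => ⟨1, rfl, ?_⟩, fun i hi => ⟨1, rfl, ?_⟩⟩
    · rw [Set.mem_singleton_iff.1 hi]
      nth_rw 1 [← h0]
      rw [rep_inv_apply]
    · rw [Set.mem_singleton_iff.1 hi, h0]
  have h1 := apply_eq_neg hJ hp hw (sr 0)
  rw [sr_self] at h1
  have h2 := pairing_rep h0 (sr 0)
  rw [sr, pairing_single, mul_one] at h2
  unfold pairing at h2
  rw [Fin.sum_univ_two, h.diag, show (rep cs h w (Pi.single 0 1) : Fin 2 → ℤ) 0 = -1 from h1] at h2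
  funext k
  fin_cases k
  · exact h1
  · change rep cs h w (Pi.single 0 1) 1 = A 1 0
    linarith

/-- the image of a vector under `v` -/
theorem rep_vv1 (hA : A 0 1 * A 1 0 = 3) (x : Fin 2 → ℤ) :
    rep cs h (vv1 cs) x = ![-x 0, x 1 + A 1 0 * x 0] := by
  have e : vv1 cs = cs.simple 0 * (cs.simple 1 * (cs.simple 0 * (cs.simple 1 * cs.simple 0))) := by
    unfold vv1
    rw [mul_inv_rev, cs.inv_simple, cs.inv_simple]
    simp only [mul_assoc]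
  rw [e, rep_mul_apply, rep_mul_apply, rep_mul_apply, rep_mul_apply]
  simp only [rep_zero, rep_one, Matrix.cons_val_zero, Matrix.cons_val_one]
  apply vec_ext
  · linear_combination (-A 0 1 * (A 0 1 * A 1 0 - 1) * x 1 - A 0 1 * A 1 0 * x 0) * hA
  · linear_combination (A 0 1 * A 1 0 * x 1 + A 1 0 * x 0) * hA

/-- For type `G₂` the only element outside `W_{1}` fixing `α_1` is the reflection of `s_0 s_1 α_0`. -/
theorem eq_vv1 [Finite W] (hA : A 0 1 * A 1 0 = 3) {w : W} (hw : w ∉ WJ cs ({1} : Set (Fin 2)))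
    (h0 : rep cs h w (sr 1) = sr 1) : w = vv1 cs := by
  refine eq_of_rep (cs := cs) (h := h) fun i => ?_
  have h1 := rep_eq_of1 hw h0
  rw [rep_vv1 hA]
  fin_cases i
  · change rep cs h w (sr 0) = ![-(sr 0 : Fin 2 → ℤ) 0, (sr 0 : Fin 2 → ℤ) 1 + A 1 0 * (sr 0 : Fin 2 → ℤ) 0]
    rw [h1, sr_zero_eq]
    funext k
    fin_cases k <;> simp
  · change rep cs h w (sr 1) = ![-(sr 1 : Fin 2 → ℤ) 0, (sr 1 : Fin 2 → ℤ) 1 + A 1 0 * (sr 1 : Fin 2 → ℤ) 0]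
    rw [h0, sr_one_eq]
    exact vec_ext (by simp) (by simp)

/-- the root `s_1 s_0 α_1` -/
theorem rep_inv_one (hA : A 0 1 * A 1 0 = 3) :
    rep cs h (cs.simple 0 * cs.simple 1)⁻¹ (sr 1) = ![-A 0 1, 2] := by
  rw [mul_inv_rev, cs.inv_simple, cs.inv_simple, rep_mul_apply, sr_one_eq]
  simp only [rep_zero, rep_one, Matrix.cons_val_zero, Matrix.cons_val_one]
  apply vec_ext
  · ring
  · linear_combination hA

variable (R : RGD cs h p T n X)

include R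

/-- **The big characters for type `G₂`, node `1`.** -/
theorem exists_chi_G2_mul1 [Finite W] [Finite Y] (hG : GG cs h T X = ⊤) (hTc : ∀ a ∈ T, ∀ b ∈ T, a * b = b * a)
    (hA : A 0 1 * A 1 0 = 3) (hU : 2 ≤ Nat.card (X (sr 1))) {a : Y} (ha : a ∈ T) (ha2 : a * a ≠ 1)
    (hinv : (n 0)⁻¹ * a * n 0 = a⁻¹) (hc : ∀ u ∈ X ![-A 0 1, 2], a * u = u * a)
    (hc' : ∀ u ∈ X (-![-A 0 1, 2]), a * u = u * a) :
    ∃ (χ : IrrCharacter Y) (m : ℕ), charDegree (χ : Y → ℂ) = (PJ cs h T X {1}).index * m ∧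
      ∀ ℓ : ℕ, ℓ.Prime → (∃ x ∈ T, orderOf x = ℓ ∧ ∀ u ∈ X (sr 1), x * u = u * x → u = 1) → ℓ ∣ m := by
  have hm : Rp cs R.nsys (cs.simple 0 * cs.simple 1) (n 0 * n 1) :=
    (rp_simple cs R.nsys 0).mul (rp_simple cs R.nsys 1)
  have hy : ∀ u ∈ X (sr 1), (n 0 * n 1)⁻¹ * u * (n 0 * n 1) ∈ X ![-A 0 1, 2] := by
    intro u hu
    have := R.conj_mem' hm (isRoot_sr cs h 1) hu
    rwa [rep_inv_one hA] at this
  have hy' : ∀ u ∈ X (-sr 1), (n 0 * n 1)⁻¹ * u * (n 0 * n 1) ∈ X (-![-A 0 1, 2]) := by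
    intro u hu
    have := R.conj_mem' hm (isRoot_sr cs h 1).neg hu
    rwa [map_neg, rep_inv_one hA] at this
  have hzT : (n 0 * n 1) * a * (n 0 * n 1)⁻¹ ∈ T := by
    have h1 := (mem_normalizer_iff_cj.1 hm.mem_normalizer)
    have h2 : (n 0 * n 1) * a * (n 0 * n 1)⁻¹ ∈ cj (n 0 * n 1) T := conj_mem_cj.2 ha
    rwa [h1] at h2
  have hconj : ∀ u, a * ((n 0 * n 1)⁻¹ * u * (n 0 * n 1)) = ((n 0 * n 1)⁻¹ * u * (n 0 * n 1)) * a →
      (n 0 * n 1) * a * (n 0 * n 1)⁻¹ * u = u * ((n 0 * n 1) * a * (n 0 * n 1)⁻¹) := by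
    intro u hu
    calc (n 0 * n 1) * a * (n 0 * n 1)⁻¹ * u =
          (n 0 * n 1) * (a * ((n 0 * n 1)⁻¹ * u * (n 0 * n 1))) * (n 0 * n 1)⁻¹ := by group
      _ = (n 0 * n 1) * (((n 0 * n 1)⁻¹ * u * (n 0 * n 1)) * a) * (n 0 * n 1)⁻¹ := by rw [hu]
      _ = _ := by group
  have hz : (n 0 * n 1) * a * (n 0 * n 1)⁻¹ ∈ CT T X 1 :=
    mem_CT.2 ⟨hzT, fun u hu => hconj u (hc _ (hy u hu)), fun u hu => hconj u (hc' _ (hy' u hu))⟩
  refine exists_chi_inv_mul R hG hTc 1 hU hz ?_ ?_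
  · intro h1
    apply ha2
    have h2 : (n 0 * n 1) * (a * a) * (n 0 * n 1)⁻¹ = 1 := by
      rw [← h1]
      group
    rwa [mul_inv_eq_one, mul_eq_left] at h2
  · intro w g hg hw hwi
    have hwv := eq_vv1 hA hw hwi
    subst hwv
    have hg1 : Rp cs R.nsys (vv1 cs) ((n 0 * n 1) * n 0 * (n 0 * n 1)⁻¹) :=
      (hm.mul (rp_simple cs R.nsys 0)).mul hm.inv
    have ht := hg1.unique hg
    set m := n 0 * n 1 with hm0
    set t := (m * n 0 * m⁻¹)⁻¹ * g with ht0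
    have e : g = m * n 0 * m⁻¹ * t := by rw [ht0]; group
    have e1 : (m * n 0 * m⁻¹)⁻¹ * (m * a * m⁻¹) * (m * n 0 * m⁻¹) = (m * a * m⁻¹)⁻¹ := by
      calc (m * n 0 * m⁻¹)⁻¹ * (m * a * m⁻¹) * (m * n 0 * m⁻¹) = m * ((n 0)⁻¹ * a * n 0) * m⁻¹ := by group
        _ = _ := by rw [hinv]; group
    have e2 := hTc _ (inv_mem hzT) _ ht
    calc g⁻¹ * (m * a * m⁻¹) * g = t⁻¹ * ((m * n 0 * m⁻¹)⁻¹ * (m * a * m⁻¹) * (m * n 0 * m⁻¹)) * t := by
          rw [e]; group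
      _ = t⁻¹ * ((m * a * m⁻¹)⁻¹ * t) := by rw [e1, mul_assoc]
      _ = t⁻¹ * (t * (m * a * m⁻¹)⁻¹) := by rw [e2]
      _ = _ := by group

end Cfsg.Agent.H501.PSq
end

-- part: H501/PSq/TdC
section
/-!
# `³D₄(q)`, `q ≥ 4`: a degree divisible by `p ^ 2` for `5 ≤ p ∣ q ^ 2 + q + 1` (helper501, S4844)

Harish-Chandra induction from the parabolic subgroup of the node `1` (root group of order `q ^ 3`).
-/

set_option autoImplicit false
set_option linter.unusedSectionVars false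

open Cfsg

namespace Cfsg.Agent.H501.PSq

open CoxeterSystem Cfsg.Agent.ChevalleyStructure.CoxeterGeom Cfsg.Agent.Tits.Roots Cfsg.Agent.Tits.Core
  Cfsg.Agent.Tits.RootComb Cfsg.Agent.Nodes.Comb Cfsg.Agent.Nodes.Reps Cfsg.Agent.Nodes.BNOf
  Cfsg.Agent.Nodes.BNOf.RGD Cfsg.Agent.Nodes.RGDChev Cfsg.Agent.Nodes.RGDFold
open Cfsg.Agent.Nodes.Bruhat Cfsg.Agent.Nodes.LeviDec
open Cfsg.Lie Cfsg.Agent.ChevalleyStructure Cfsg.Agent.ChevalleyStructure.TwistedU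
open Cfsg.Agent.Nodes.RGDFoldSL
open Cfsg.Agent.ChevalleyStructure.SL2Hom (up lo mem_closure_SL2)
open Cfsg.Agent.BiChar.TwDFour Cfsg.Agent.H115.HC.TwDFour

theorem cls_12 : ∀ k < chevD4.nroots, (V chevD4 Nodes.RGDTwD4.J k = ![1, 2] ↔ k ∈ [21, 17, 20]) := by decide +kernel

theorem cls_12' : ∀ k < chevD4.nroots, (V chevD4 Nodes.RGDTwD4.J k = -![1, 2] ↔ k ∈ [2, 3, 6]) := by decide +kernel

theorem tab14 : chevD4.simple 1 = 14 ∧ 1 < chevD4.rank ∧ (∀ r ∈ [21, 17, 20, 2, 3, 6], r < chevD4.nroots ∧ chevD4.cartan 1 r = 0) ∧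
    18 < chevD4.nroots ∧ chevD4.cartan 1 18 = -1 := by decide +kernel

variable {K : Type} [Field K] {q : ℕ} {φ : K →+* K}

/-- `h_14(c)` commutes with the root elements of the roots `r` orthogonal to `14` -/
theorem hG14_comm {c : K} (hc : c ≠ 0) {A : List ℕ} (hA : ∀ r ∈ A, r ∈ [21, 17, 20, 2, 3, 6])
    {x : GL chevD4.Idx K} (hx : x ∈ rspan (Elts.xG (F := K) Nodes.RGDTwD4.hp.inList) {k | k ∈ A}) :
    Elts.hG Nodes.RGDTwD4.hp.inList 14 c * x = x * Elts.hG Nodes.RGDTwD4.hp.inList 14 c := by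
  have h1 : rspan (Elts.xG (F := K) Nodes.RGDTwD4.hp.inList) {k | k ∈ A} ≤
      Subgroup.centralizer {Elts.hG Nodes.RGDTwD4.hp.inList 14 c} := by
    refine (Subgroup.closure_le _).2 ?_
    rintro _ ⟨r, hr, t, rfl⟩
    rw [SetLike.mem_coe, Subgroup.mem_centralizer_singleton_iff]
    obtain ⟨s1, r1, h2, -, -⟩ := tab14
    obtain ⟨h3, h4⟩ := h2 r (hA r hr)
    have h5 := ETable.Exc.hG_comm_xG Nodes.RGDTwD4.hp.inList r1 h3 hc (by rw [h4, zpow_zero]) t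
    rw [s1] at h5
    exact h5.symm
  exact (Subgroup.mem_centralizer_singleton_iff.1 (h1 hx)).symm

section

variable (hφ : ∀ x, φ x = x ^ q) (hle : twistedD4 K q ≤ D4Fixed.fix φ)

theorem Ph0_comm {c : Fx φ ((Nodes.RGDTwNode.D4.rest 0).length + 1)} (hc : c ≠ 0) {z : Fin 2 → ℤ} {A : List ℕ}
    (hz : ∀ k < chevD4.nroots, (V chevD4 Nodes.RGDTwD4.J k = z ↔ k ∈ A)) (hA : ∀ r ∈ A, r ∈ [21, 17, 20, 2, 3, 6])
    {u : ↥(twistedD4 K q)} (hu : u ∈ Nodes.RGDTwD4.X φ q z) :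
    Ph hφ hle 0 (hS c) * u = u * Ph hφ hle 0 (hS c) := by
  have hu' : (u : GL chevD4.Idx K) ∈ R chevD4 Nodes.RGDTwD4.hp K Nodes.RGDTwD4.J (D4Fixed.sig φ) z :=
    Subgroup.mem_subgroupOf.1 hu
  rw [R_eq hz (fun k hk => (tab14.2.2.1 k (hA k hk)).1)] at hu'
  apply Subtype.ext
  rw [Subgroup.coe_mul, Subgroup.coe_mul, coe_hS0]
  exact hG14_comm (fun h => hc (Subtype.ext h)) hA hu'.1

/-- `Ph 0 (hS c) ^ 2 ≠ 1` for `c ^ 2 ≠ 1` -/
theorem Ph0_sq {c : Fx φ ((Nodes.RGDTwNode.D4.rest 0).length + 1)} (hc : c ≠ 0) (hc2 : (c : K) ^ 2 ≠ 1) :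
    Ph hφ hle 0 (hS c) * Ph hφ hle 0 (hS c) ≠ 1 := by
  intro h1
  have h2 := congrArg (Subtype.val : ↥(twistedD4 K q) → GL chevD4.Idx K) h1
  rw [Subgroup.coe_mul, coe_hS0, Subgroup.coe_one] at h2
  have hc0 : (c : K) ≠ 0 := fun h => hc (Subtype.ext h)
  obtain ⟨s1, r1, -, h3, h4⟩ := tab14
  have h5 : ∀ t : K, Elts.hG Nodes.RGDTwD4.hp.inList 14 (c : K) * Elts.xG Nodes.RGDTwD4.hp.inList 18 t =
      Elts.xG Nodes.RGDTwD4.hp.inList 18 ((c : K)⁻¹ * t) * Elts.hG Nodes.RGDTwD4.hp.inList 14 (c : K) := by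
    intro t
    have := ETable.Exc.hG_xG Nodes.RGDTwD4.hp.inList r1 h3 hc0 t
    rwa [s1, h4, zpow_neg, zpow_one] at this
  have h6 : Elts.hG Nodes.RGDTwD4.hp.inList 14 (c : K) * Elts.hG Nodes.RGDTwD4.hp.inList 14 (c : K) *
      Elts.xG Nodes.RGDTwD4.hp.inList 18 1 = Elts.xG Nodes.RGDTwD4.hp.inList 18 ((c : K)⁻¹ * ((c : K)⁻¹ * 1)) *
      (Elts.hG Nodes.RGDTwD4.hp.inList 14 (c : K) * Elts.hG Nodes.RGDTwD4.hp.inList 14 (c : K)) := by
    rw [mul_assoc, h5, ← mul_assoc, h5, mul_assoc]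
  rw [h2, one_mul, mul_one] at h6
  have h7 := Elts.xG_injective Nodes.RGDTwD4.hp.inList h3 h6
  apply hc2
  have h8 : (c : K) * (c : K) * ((c : K)⁻¹ * ((c : K)⁻¹ * 1)) = 1 := by field_simp
  rw [← h7, mul_one] at h8
  rw [sq, h8]

end

variable [Fintype K]

/-- the index of the parabolic subgroup of the node `1` -/
theorem index_eq1 {p : ℕ} [Fact p.Prime] [CharP K p] (hφ : ∀ x, φ x = x ^ q)
    (hle : twistedD4 K q ≤ D4Fixed.fix φ) (hq : IsPrimePow q) (hK : Fintype.card K = q ^ 3) :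
    (PJ cs Nodes.RGDTwD4.isCartan (Nodes.RGDTwD4.T K q) (Nodes.RGDTwD4.X φ q) {1}).index =
      (q + 1) * (q ^ 8 + q ^ 4 + 1) := by
  have : Finite CoxeterMatrix.G₂.Group := Nodes.RGDChev.finite_W Cfsg.Agent.BiChar.GTwo.isType cs
  have R := Nodes.RGDTwD4.rgd (K := K) cs hK hφ p
  have hpp : p.Prime := Fact.out
  obtain ⟨f, hf, hqf⟩ : ∃ f, f ≠ 0 ∧ q = p ^ f := by
    obtain ⟨p', k, hp', hk, e⟩ := hq
    obtain ⟨m, -, hm⟩ := FiniteField.card K p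
    have h1 : p' = p := by
      have h2 : p' ∣ p ^ (m : ℕ) := by
        rw [← hm, hK, ← e]
        exact dvd_pow (dvd_pow_self p' hk.ne') (by norm_num)
      exact (Nat.prime_dvd_prime_iff_eq hp'.nat_prime hpp).1 (hp'.nat_prime.dvd_of_dvd_pow h2)
    exact ⟨k, hk.ne', by rw [← e, h1]⟩
  have hpr : Cfsg.Agent.H35.PoinNum.pr (p ^ f) [2, 6] = (q ^ 2 - 1) * (q ^ 6 - 1) := by
    rw [Cfsg.Agent.H35.PoinNum.pr_cons, Cfsg.Agent.H35.PoinNum.pr_cons, Cfsg.Agent.H35.PoinNum.pr_nil, mul_one, hqf]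
  have hN : Nat.card ↥(PJ cs Nodes.RGDTwD4.isCartan (Nodes.RGDTwD4.T K q) (Nodes.RGDTwD4.X φ q) {1}) =
      (q ^ 3 + 1) * Nat.card ↥(RGD.B cs Nodes.RGDTwD4.isCartan (Nodes.RGDTwD4.T K q) (Nodes.RGDTwD4.X φ q)) := by
    have h1 := Cfsg.Agent.H554.RG.relIndex_B_PJ_singleton R 1
    rw [H83.Eight.TwD4.card_X1 hφ hle hK] at h1
    rw [← h1, mul_comm]
    have h2 := Subgroup.relIndex_mul_relIndex ⊥ _ _ bot_le (B_le_PJ (cs := cs)
      (h := Nodes.RGDTwD4.isCartan) (T := Nodes.RGDTwD4.T K q) (X := Nodes.RGDTwD4.X φ q) (J := {1}))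
    rw [Subgroup.relIndex_bot_left, Subgroup.relIndex_bot_left] at h2
    exact h2.symm
  have hT : 1 * Nat.card (Nodes.RGDTwD4.T K q) = (q - 1) * (q ^ 3 - 1) := by
    rw [one_mul, ← D4H1.card_H1 hq hK hφ]
    exact Nat.card_congr (Subgroup.subgroupOfEquivOfLe inf_le_right).toEquiv
  have h1 := Cfsg.Agent.H35.ExcIdx.index_eq (p := p) R (GG_top hφ hK) hN (d := 1) (b := f * 12)
    (P := Cfsg.Agent.H35.PoinNum.pr (p ^ f) [2, 6] * (q ^ 8 + q ^ 4 + 1)) (by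
      rw [Nat.dvd_one]
      exact hpp.one_lt.ne') hT (by
      rw [one_mul, Cfsg.Agent.S1067.result hq hK, hpr, pow_mul, ← hqf]
      ring) (by
      rw [hpp.dvd_mul, not_or]
      refine ⟨Cfsg.Agent.H35.ExcIdx.not_dvd_pr hpp hf _ (by simp), fun h2 => ?_⟩
      have h3 : p ∣ q := by
        rw [hqf]
        exact dvd_pow_self p hf
      have h4 : p ∣ q ^ 8 + q ^ 4 := dvd_add (dvd_pow h3 (by norm_num)) (dvd_pow h3 (by norm_num))
      exact hpp.one_lt.ne' (Nat.dvd_one.1 ((Nat.dvd_add_right h4).1 h2)))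
  rw [hpr] at h1
  obtain ⟨m, hm⟩ := Nat.exists_eq_add_of_le hq.two_le
  rw [hm] at h1 ⊢
  have e1 : 2 + m - 1 = m + 1 := by omega
  have e2 : (2 + m) ^ 2 - 1 = (m + 1) * (2 + m + 1) := by
    rw [show (2 + m) ^ 2 = (m + 1) * (2 + m + 1) + 1 by ring]
    rfl
  have e3 : (2 + m) ^ 3 - 1 = (m + 1) * ((2 + m) ^ 2 + (2 + m) + 1) := by
    rw [show (2 + m) ^ 3 = (m + 1) * ((2 + m) ^ 2 + (2 + m) + 1) + 1 by ring]
    rfl
  have e6 : (2 + m) ^ 6 - 1 = (m + 1) * (((2 + m) ^ 2 + (2 + m) + 1) * ((2 + m) ^ 3 + 1)) := by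
    rw [show (2 + m) ^ 6 = (m + 1) * (((2 + m) ^ 2 + (2 + m) + 1) * ((2 + m) ^ 3 + 1)) + 1 by ring]
    rfl
  rw [e1, e2, e3, e6] at h1
  have h3 : 0 < ((2 + m) ^ 3 + 1) * ((m + 1) * ((m + 1) * ((2 + m) ^ 2 + (2 + m) + 1))) := by positivity
  apply Nat.eq_of_mul_eq_mul_right h3
  rw [← mul_assoc, h1]
  ring

/-- **The degrees of the characters induced from the parabolic subgroup of the node `1`.** -/
theorem char_one (hq : IsPrimePow q) (h4 : 4 ≤ q) (hK : Fintype.card K = q ^ 3) :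
    ∃ (χ : IrrCharacter ↥(twistedD4 K q)) (m : ℕ),
      charDegree (χ : ↥(twistedD4 K q) → ℂ) = ((q + 1) * (q ^ 8 + q ^ 4 + 1)) * m ∧
        ∀ ℓ : ℕ, ℓ.Prime → ℓ ≠ 2 → ℓ ∣ q ^ 3 - 1 → ℓ ∣ m := by
  classical
  obtain ⟨p, hch⟩ := CharP.exists K
  have : Fact p.Prime := ⟨CharP.char_is_prime K p⟩
  obtain ⟨φ, hφ⟩ := D4Fixed.exists_frob hq hK
  have hle := D4Fixed.twisted_le_fix hK hφ
  have : Finite CoxeterMatrix.G₂.Group := Nodes.RGDChev.finite_W Cfsg.Agent.BiChar.GTwo.isType cs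
  have Rg := Nodes.RGDTwD4.rgd (K := K) cs hK hφ p
  have hcF : Nat.card (Fx φ ((Nodes.RGDTwNode.D4.rest 0).length + 1)) = q := by
    rw [← ChevalleyStructure.D4U.card_fix_field hq.one_lt hK hφ]
    refine Nat.card_congr (Equiv.subtypeEquivRight fun a => ?_)
    rw [mem_Fx]
    exact Iff.rfl
  have hc1 : Nat.card (Fx φ ((Nodes.RGDTwNode.D4.rest 1).length + 1)) = q ^ 3 := by
    rw [← hK, ← Nat.card_eq_fintype_card]
    exact Nat.card_congr (Equiv.subtypeUnivEquiv fun t => mem_Fx_three hK hφ t)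
  -- an element of the torus
  obtain ⟨c, hc0, hc2⟩ : ∃ c : Fx φ ((Nodes.RGDTwNode.D4.rest 0).length + 1), c ≠ 0 ∧ (c : K) ^ 2 ≠ 1 := by
    have hfin : Finite (Fx φ ((Nodes.RGDTwNode.D4.rest 0).length + 1)) := inferInstance
    obtain ⟨g, hg⟩ := IsCyclic.exists_generator (α := (Fx φ ((Nodes.RGDTwNode.D4.rest 0).length + 1))ˣ)
    have h2 : orderOf g = q - 1 := by
      rw [orderOf_eq_card_of_forall_mem_zpowers hg, Nat.card_units, hcF]
    refine ⟨g, g.ne_zero, fun h4' => ?_⟩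
    have h5 : g ^ 2 = 1 := Units.ext (Subtype.ext (by
      rw [Units.val_pow_eq_pow_val, Units.val_one]
      exact h4'))
    have h6 := Nat.le_of_dvd (by norm_num) (orderOf_dvd_of_pow_eq_one h5)
    rw [h2] at h6
    omega
  obtain ⟨χ, m, h1, h2⟩ := exists_chi_G2_mul1 Rg (GG_top hφ hK) T_comm (by decide)
    (by
      rw [H83.Eight.TwD4.card_X1 hφ hle hK]
      calc 2 ≤ q := by omega
        _ ≤ q ^ 3 := Nat.le_self_pow (by norm_num) q) (a := Ph hφ hle 0 (hS c))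
    (Cfsg.Agent.BiChar.TwDFour.Ph_hS hφ hle 0 hc0)
    (Ph0_sq hφ hle hc0 hc2)
    (by
      rw [← Cfsg.Agent.BiChar.TwDFour.Ph_wS hφ hle 0, ← map_inv, ← map_mul, ← map_mul, wS_hS hc0, map_inv])
    (fun u hu => Ph0_comm hφ hle hc0 cls_12 (by decide) hu)
    (fun u hu => Ph0_comm hφ hle hc0 cls_12' (by decide) hu)
  rw [index_eq1 (p := p) hφ hle hq hK] at h1
  refine ⟨χ, m, h1, fun ℓ hℓ h3 h5 => ?_⟩
  refine h2 ℓ hℓ ?_
  have := Fact.mk hℓ
  have hfin : Finite (Fx φ ((Nodes.RGDTwNode.D4.rest 1).length + 1)) := inferInstance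
  have := Fintype.ofFinite (Fx φ ((Nodes.RGDTwNode.D4.rest 1).length + 1))
  obtain ⟨d, hd⟩ := exists_prime_orderOf_dvd_card' (G := (Fx φ ((Nodes.RGDTwNode.D4.rest 1).length + 1))ˣ) ℓ (by
    rwa [Nat.card_units, hc1])
  have hd1 : (d : Fx φ ((Nodes.RGDTwNode.D4.rest 1).length + 1)) ^ 2 ≠ 1 := by
    intro h6
    have h7 : d ^ 2 = 1 := Units.ext (by rw [Units.val_pow_eq_pow_val, h6, Units.val_one])
    have h8 := orderOf_dvd_of_pow_eq_one h7
    rw [hd] at h8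
    exact h3 ((Nat.prime_dvd_prime_iff_eq hℓ Nat.prime_two).1 h8)
  have hne : Ph hφ hle 1 (hS (d : Fx φ ((Nodes.RGDTwNode.D4.rest 1).length + 1))) ≠ 1 := by
    intro h1
    have := free hφ hle d.ne_zero hd1 (t := 1) (by rw [h1, one_mul, mul_one])
    exact one_ne_zero this
  refine ⟨Ph hφ hle 1 (hS (d : Fx φ ((Nodes.RGDTwNode.D4.rest 1).length + 1))),
    Cfsg.Agent.BiChar.TwDFour.Ph_hS hφ hle 1 d.ne_zero, ?_, ?_⟩
  · refine orderOf_eq_prime ?_ hne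
    have h1S : hS (1 : Fx φ ((Nodes.RGDTwNode.D4.rest 1).length + 1)) = 1 := by
      apply Subtype.ext
      rw [coe_hS one_ne_zero, inv_one]
      exact Matrix.one_fin_two.symm
    have key : ∀ k : ℕ, hS (d : Fx φ ((Nodes.RGDTwNode.D4.rest 1).length + 1)) ^ k =
        hS ((d : Fx φ ((Nodes.RGDTwNode.D4.rest 1).length + 1)) ^ k) := by
      intro k
      induction k with
      | zero => rw [pow_zero, pow_zero, h1S]
      | succ k ih => rw [pow_succ, ih, hS_mul (pow_ne_zero _ d.ne_zero) d.ne_zero, ← pow_succ]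
    rw [← map_pow, key, ← Units.val_pow_eq_pow_val, ← hd, pow_orderOf_eq_one, Units.val_one, h1S, map_one]
  · intro u hu huc
    obtain ⟨t, rfl⟩ := (mem_X hφ hle 1 u).1 hu
    have ht := free hφ hle d.ne_zero hd1 huc
    subst ht
    have h0 : (up 0 : Matrix.SpecialLinearGroup (Fin 2) (Fx φ ((Nodes.RGDTwNode.D4.rest 1).length + 1))) = 1 := by
      apply Subtype.ext
      exact Matrix.one_fin_two.symm
    rw [h0, map_one]

/-- **`³D₄(q)`, `q ≥ 4`, `5 ≤ p ∣ q ^ 2 + q + 1`.** -/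
theorem td_phi3_big (hq : IsPrimePow q) (h4 : 4 ≤ q) (hK : Fintype.card K = q ^ 3) {p : ℕ} (hp : p.Prime)
    (hp2 : p ≠ 2) (hd : p ∣ q ^ 2 + q + 1) : H33.IM (p ^ 2) ↥(twistedD4 K q) := by
  obtain ⟨χ, m, h1, h2⟩ := char_one hq h4 hK
  have hm : p ∣ m := h2 p hp hp2 (hd.trans (dvd_cube_sub (by omega)).2)
  refine ⟨χ, ?_⟩
  rw [h1, sq]
  refine Nat.mul_dvd_mul (Dvd.dvd.mul_left (hd.trans ?_) _) hm
  obtain ⟨k, rfl⟩ := Nat.exists_eq_add_of_le h4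
  refine ⟨((4 + k) * (3 + k) + 1) * ((4 + k) ^ 2 * (k ^ 2 + 8 * k + 15) + 1), ?_⟩
  ring

end Cfsg.Agent.H501.PSq
end
end
end
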